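import Groth.Agent.Lib.Hensel.Branches
import Groth.Agent.Lib.SemiLoc.MinPrimes
import Mathlib.RingTheory.Spectrum.Prime.RingHom
import Mathlib.RingTheory.Spectrum.Maximal.Defs
import Mathlib.FieldTheory.IsAlgClosed.Basic
import Mathlib.SetTheory.Cardinal.Finite
import Mathlib.Algebra.BigOperators.WithTop

/-!
# Branches of a local ring with several minimal primes
-/

universe u

open Polynomial

noncomputable section

namespace GrothLib.BrnchSum

variable (A : Type u) [CommRing A]

/-- The index type of minimal primes. -/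
abbrev Idx : Type u := ↥(minimalPrimes A)

instance (p : Idx A) : p.1.IsPrime := p.2.1.1

instance isDomain_red (p : Idx A) : IsDomain (CAlg2.red (A ⧸ p.1)) :=
  (Ideal.Quotient.isDomain_iff_prime _).2 (by
    rw [nilradical_eq_zero (A ⧸ p.1), Ideal.zero_eq_bot]; exact Ideal.isPrime_bot)

variable {A}

theorem mem_nonZeroDivisors_red (hfin : (minimalPrimes A).Finite) {a : A} :
    Ideal.Quotient.mk (nilradical A) a ∈ nonZeroDivisors (CAlg2.red A) ↔ ∀ p : Idx A, a ∉ p.1 := by
  classical
  constructor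
  · intro ha p hap
    -- an element of a minimal prime is a zero divisor of the reduction
    haveI := hfin.fintype
    have hsep : ∀ q : {q : Idx A // q ≠ p}, ∃ c ∈ q.1.1, c ∉ p.1 := by
      rintro ⟨q, hq⟩
      by_contra! hc
      exact hq (Subtype.ext (le_antisymm hc (p.2.2 ⟨q.2.1.1, bot_le⟩ hc)))
    choose c hc hcp using hsep
    let e := ∏ q, c q
    have he : Ideal.Quotient.mk (nilradical A) e * Ideal.Quotient.mk (nilradical A) a = 0 := by
      rw [← map_mul, Ideal.Quotient.eq_zero_iff_mem, nilradical, ← Ideal.sInf_minimalPrimes, Ideal.mem_sInf]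
      intro q hq
      rcases eq_or_ne (⟨q, hq⟩ : Idx A) p with h | h
      · subst h
        exact Ideal.mul_mem_left _ _ hap
      · exact Ideal.mul_mem_right _ _
          (Ideal.prod_mem (I := q) (Finset.mem_univ (⟨⟨q, hq⟩, h⟩ : {q : Idx A // q ≠ p})) (hc ⟨⟨q, hq⟩, h⟩))
    have h0 := (mem_nonZeroDivisors_iff_right.1 ha) _ he
    rw [Ideal.Quotient.eq_zero_iff_mem] at h0
    obtain ⟨q, -, hq⟩ := Ideal.IsPrime.prod_mem_iff.1
      ((p.2.1.1.radical ▸ Ideal.radical_mono bot_le) h0 : e ∈ p.1)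
    exact hcp q hq
  · intro h
    rw [mem_nonZeroDivisors_iff_right]
    intro y hy
    obtain ⟨y, rfl⟩ := Ideal.Quotient.mk_surjective y
    rw [← map_mul, Ideal.Quotient.eq_zero_iff_mem] at hy
    rw [Ideal.Quotient.eq_zero_iff_mem, nilradical, ← Ideal.sInf_minimalPrimes, Ideal.mem_sInf]
    intro q hq
    exact (hq.1.1.mem_or_mem ((hq.1.1.radical ▸ Ideal.radical_mono bot_le) hy)).resolve_right (h ⟨q, hq⟩)

variable (A)

/-- The projection of the reduction to the component of a minimal prime. -/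
def redProj (p : Idx A) : CAlg2.red A →+* CAlg2.red (A ⧸ p.1) :=
  Ideal.Quotient.lift (nilradical A) ((Ideal.Quotient.mk _).comp (Ideal.Quotient.mk p.1)) fun a ha => by
    rw [RingHom.comp_apply, Ideal.Quotient.eq_zero_iff_mem]
    exact (mem_nilradical.1 ha).map _

theorem mk_eq_zero_iff (p : Idx A) (a : A) :
    algebraMap (CAlg2.red (A ⧸ p.1)) (FractionRing (CAlg2.red (A ⧸ p.1)))
      (redProj A p (Ideal.Quotient.mk (nilradical A) a)) = 0 ↔ a ∈ p.1 := by
  rw [map_eq_zero_iff _ (IsFractionRing.injective _ _), redProj, Ideal.Quotient.lift_mk, RingHom.comp_apply,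
    Ideal.Quotient.eq_zero_iff_mem, nilradical_eq_zero (A ⧸ p.1), Ideal.zero_eq_bot, Ideal.mem_bot,
    Ideal.Quotient.eq_zero_iff_mem]

/-- The components of the total fraction ring. -/
abbrev Comp : Type u := ∀ p : Idx A, FractionRing (CAlg2.red (A ⧸ p.1))

/-- The structure map of the components. -/
def toComp : CAlg2.red A →+* Comp A :=
  RingHom.pi fun p => (algebraMap _ _).comp (redProj A p)

variable {A} (hfin : (minimalPrimes A).Finite)

/-- The total fraction ring of the reduction maps to the product of fraction fields. -/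
def theta : FractionRing (CAlg2.red A) →+* Comp A :=
  IsLocalization.lift (M := nonZeroDivisors (CAlg2.red A)) (g := toComp A) fun s => by
    obtain ⟨a, ha⟩ := Ideal.Quotient.mk_surjective (s : CAlg2.red A)
    exact Pi.isUnit_iff.2 fun p => isUnit_iff_ne_zero.2 fun h =>
      (mem_nonZeroDivisors_red hfin).1 (ha.symm ▸ s.2 : Ideal.Quotient.mk (nilradical A) a ∈ _) p
        ((mk_eq_zero_iff A p a).1 (by rw [ha]; exact h))

theorem theta_algebraMap (x : CAlg2.red A) : theta hfin (algebraMap _ _ x) = toComp A x :=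
  IsLocalization.lift_eq _ x

theorem theta_injective : Function.Injective (theta hfin) := by
  refine (injective_iff_map_eq_zero _).2 fun w hw => ?_
  obtain ⟨⟨a, s⟩, hs⟩ := IsLocalization.surj (nonZeroDivisors (CAlg2.red A)) w
  obtain ⟨a, rfl⟩ := Ideal.Quotient.mk_surjective a
  have ha : Ideal.Quotient.mk (nilradical A) a = 0 := by
    rw [Ideal.Quotient.eq_zero_iff_mem, nilradical, ← Ideal.sInf_minimalPrimes, Ideal.mem_sInf]
    intro q hq
    have h := congrArg (theta hfin) hs
    rw [map_mul, hw, zero_mul, theta_algebraMap] at h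
    exact (mk_eq_zero_iff A ⟨q, hq⟩ a).1 (congrFun h.symm ⟨q, hq⟩)
  rw [ha, map_zero] at hs
  exact (IsLocalization.map_units (FractionRing (CAlg2.red A)) s).mul_left_eq_zero.1 hs

theorem theta_surjective : Function.Surjective (theta hfin) := by
  classical
  haveI := hfin.fintype
  intro z
  have hsep : ∀ p : Idx A, ∃ x : A, x ∉ p.1 ∧ ∀ q : Idx A, q ≠ p → x ∈ q.1 := by
    intro p
    have hex : ∀ q : {q : Idx A // q ≠ p}, ∃ c ∈ q.1.1, c ∉ p.1 := by
      rintro ⟨q, hq⟩
      by_contra! hc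
      exact hq (Subtype.ext (le_antisymm hc (p.2.2 ⟨q.2.1.1, bot_le⟩ hc)))
    choose c hc hcp using hex
    refine ⟨∏ q, c q, fun h => ?_, fun q hq => Ideal.prod_mem (I := q.1) (Finset.mem_univ (⟨q, hq⟩ : {q : Idx A // q ≠ p}))
      (hc ⟨q, hq⟩)⟩
    obtain ⟨q, -, hq⟩ := Ideal.IsPrime.prod_mem_iff.1 h
    exact hcp q hq
  choose x hx hx' using hsep
  let F : ∀ p : Idx A, A →+* FractionRing (CAlg2.red (A ⧸ p.1)) := fun p =>
    (algebraMap _ _).comp ((redProj A p).comp (Ideal.Quotient.mk (nilradical A)))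
  have hF : ∀ p (a : A), F p a = 0 ↔ a ∈ p.1 := fun p a => mk_eq_zero_iff A p a
  have hrep : ∀ p, ∃ a b : A, b ∉ p.1 ∧ z p * F p b = F p a := fun p => by
    obtain ⟨⟨a, b, hb⟩, h⟩ := IsLocalization.surj (nonZeroDivisors (CAlg2.red (A ⧸ p.1))) (z p)
    obtain ⟨a, rfl⟩ := Ideal.Quotient.mk_surjective a
    obtain ⟨a, rfl⟩ := Ideal.Quotient.mk_surjective a
    obtain ⟨b, rfl⟩ := Ideal.Quotient.mk_surjective b
    obtain ⟨b, rfl⟩ := Ideal.Quotient.mk_surjective b
    refine ⟨a, b, fun hm => nonZeroDivisors.ne_zero hb ?_, h⟩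
    rw [Ideal.Quotient.eq_zero_iff_mem.2 hm, map_zero]
  choose a b hb hab using hrep
  have key : ∀ (f : Idx A → A) (p : Idx A), F p (∑ q, x q * f q) = F p (x p) * F p (f p) := fun f p => by
    rw [map_sum, Finset.sum_eq_single p (fun q _ hq => by
      rw [map_mul, (hF p _).2 (hx' q p (Ne.symm hq)), zero_mul])
      (fun h => absurd (Finset.mem_univ p) h), map_mul]
  have hne : ∀ p, F p (∑ q, x q * b q) ≠ 0 := fun p => by
    rw [key, mul_ne_zero_iff, Ne, Ne, hF, hF]
    exact ⟨hx p, hb p⟩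
  let s : nonZeroDivisors (CAlg2.red A) := ⟨_, (mem_nonZeroDivisors_red hfin).2 fun p h => hne p ((hF p _).2 h)⟩
  refine ⟨IsLocalization.mk' (FractionRing (CAlg2.red A)) (Ideal.Quotient.mk (nilradical A) (∑ q, x q * a q)) s,
    funext fun p => ?_⟩
  have h := congrFun (congrArg (theta hfin) (IsLocalization.mk'_spec (FractionRing (CAlg2.red A))
    (Ideal.Quotient.mk (nilradical A) (∑ q, x q * a q)) s)) p
  rw [map_mul, theta_algebraMap, theta_algebraMap] at h
  refine mul_right_cancel₀ (hne p) (h.trans ?_)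
  show F p (∑ q, x q * a q) = z p * F p (∑ q, x q * b q)
  rw [key, key, ← hab p]
  ring

theorem theta_isIntegral (w : FractionRing (CAlg2.red A)) :
    IsIntegral (CAlg2.red A) w ↔ ∀ p, IsIntegral (CAlg2.red (A ⧸ p.1)) (theta hfin w p) := by
  classical
  constructor
  · rintro ⟨f, hf, hfw⟩ p
    refine ⟨f.map (redProj A p), hf.map _, ?_⟩
    have h := congrArg ((Pi.evalRingHom _ p).comp (theta hfin)) hfw
    rw [map_zero, hom_eval₂] at h
    rw [eval₂_map]
    rw [show ((Pi.evalRingHom _ p).comp (theta hfin)).comp (algebraMap (CAlg2.red A) _) =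
      (algebraMap (CAlg2.red (A ⧸ p.1)) (FractionRing (CAlg2.red (A ⧸ p.1)))).comp (redProj A p) from
        RingHom.ext fun x => congrFun (theta_algebraMap hfin x) p] at h
    exact h
  · intro h
    haveI := hfin.fintype
    have hlift : ∀ p, ∃ g : (CAlg2.red A)[X], g.Monic ∧
        g.eval₂ ((algebraMap (CAlg2.red (A ⧸ p.1)) (FractionRing (CAlg2.red (A ⧸ p.1)))).comp (redProj A p))
          (theta hfin w p) = 0 := fun p => by
      obtain ⟨f, hf, hfw⟩ := h p
      have hsurj : Function.Surjective (redProj A p) := fun y => by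
        obtain ⟨y, rfl⟩ := Ideal.Quotient.mk_surjective y
        obtain ⟨y, rfl⟩ := Ideal.Quotient.mk_surjective y
        exact ⟨Ideal.Quotient.mk _ y, Ideal.Quotient.lift_mk _ _ _⟩
      obtain ⟨g, hg, -, hgm⟩ := lifts_and_degree_eq_and_monic (map_surjective _ hsurj f) hf
      exact ⟨g, hgm, by rw [← eval₂_map, hg]; exact hfw⟩
    choose g hgm hg using hlift
    refine ⟨∏ p, g p, monic_prod_of_monic _ _ fun p _ => hgm p, theta_injective hfin (funext fun p => ?_)⟩
    show ((Pi.evalRingHom _ p).comp (theta hfin)) _ = _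
    rw [map_zero, hom_eval₂, eval₂_finsetProd]
    refine Finset.prod_eq_zero (Finset.mem_univ p) ?_
    rw [show ((Pi.evalRingHom _ p).comp (theta hfin)).comp (algebraMap (CAlg2.red A) _) =
      (algebraMap (CAlg2.red (A ⧸ p.1)) (FractionRing (CAlg2.red (A ⧸ p.1)))).comp (redProj A p) from
        RingHom.ext fun x => congrFun (theta_algebraMap hfin x) p]
    exact hg p

include hfin in
/-- The normalization of the reduction is the product of the normalizations of the components. -/
theorem exists_equiv_normRed :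
    ∃ e : CAlg2.normRed A ≃+* ∀ p : Idx A, CAlg2.normRed (A ⧸ p.1),
      ∀ (a : A) (p : Idx A), e (algebraMap (CAlg2.red A) (CAlg2.normRed A) (Ideal.Quotient.mk (nilradical A) a)) p =
        algebraMap (CAlg2.red (A ⧸ p.1)) (CAlg2.normRed (A ⧸ p.1))
          (Ideal.Quotient.mk (nilradical (A ⧸ p.1)) (Ideal.Quotient.mk p.1 a)) := by
  let f : CAlg2.normRed A →+* ∀ p : Idx A, CAlg2.normRed (A ⧸ p.1) :=
    RingHom.pi fun p => (((Pi.evalRingHom _ p).comp (theta hfin)).comp
      (integralClosure (CAlg2.red A) (FractionRing (CAlg2.red A))).val.toRingHom).codRestrict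
        (integralClosure (CAlg2.red (A ⧸ p.1)) (FractionRing (CAlg2.red (A ⧸ p.1))))
        fun x => (theta_isIntegral hfin _).1 x.2 p
  have hf : Function.Bijective f := by
    refine ⟨fun x y h => Subtype.ext (theta_injective hfin (funext fun p => congrArg Subtype.val (congrFun h p))),
      fun z => ?_⟩
    obtain ⟨w, hw⟩ := theta_surjective hfin fun p => ((z p : CAlg2.normRed (A ⧸ p.1)) : FractionRing _)
    exact ⟨⟨w, (theta_isIntegral hfin w).2 fun p => by rw [hw]; exact (z p).2⟩,
      funext fun p => Subtype.ext (congrFun hw p)⟩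
  exact ⟨RingEquiv.ofBijective f hf, fun a p => Subtype.ext (congrFun (theta_algebraMap hfin _) p)⟩

/-- Maximal ideals of a finite product. -/
theorem exists_equiv_maximalSpectrum_pi {ι : Type u} [Finite ι] (R : ι → Type u) [∀ i, CommRing (R i)] :
    ∃ e : (Σ i, MaximalSpectrum (R i)) ≃ MaximalSpectrum (∀ i, R i),
      ∀ x, (e x).asIdeal = x.2.asIdeal.comap (Pi.evalRingHom R x.1) := by
  classical
  let g : (Σ i, MaximalSpectrum (R i)) → MaximalSpectrum (∀ i, R i) := fun x =>
    ⟨x.2.asIdeal.comap (Pi.evalRingHom R x.1), haveI := x.2.isMaximal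
      Ideal.comap_isMaximal_of_surjective _ (Function.surjective_eval x.1)⟩
  refine ⟨Equiv.ofBijective g ⟨fun x y h => ?_, fun m => ?_⟩, fun _ => rfl⟩
  · obtain ⟨i, m⟩ := x
    obtain ⟨j, m'⟩ := y
    have h' : PrimeSpectrum.sigmaToPi R ⟨i, ⟨m.asIdeal, m.isMaximal.isPrime⟩⟩ =
        PrimeSpectrum.sigmaToPi R ⟨j, ⟨m'.asIdeal, m'.isMaximal.isPrime⟩⟩ :=
      PrimeSpectrum.ext (congrArg MaximalSpectrum.asIdeal h :)
    have h2 := PrimeSpectrum.sigmaToPi_injective R h'
    obtain ⟨rfl, h3⟩ := Sigma.mk.inj_iff.1 h2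
    exact congrArg _ (MaximalSpectrum.ext (congrArg PrimeSpectrum.asIdeal (eq_of_heq h3)))
  · obtain ⟨⟨i, q⟩, hq⟩ := (PrimeSpectrum.sigmaToPi_bijective R).2 ⟨m.asIdeal, m.isMaximal.isPrime⟩
    have hq' : q.asIdeal.comap (Pi.evalRingHom R i) = m.asIdeal := congrArg PrimeSpectrum.asIdeal hq
    have hmax : q.asIdeal.IsMaximal := by
      have h := Ideal.map_comap_of_surjective (Pi.evalRingHom R i) (Function.surjective_eval i) q.asIdeal
      rw [hq'] at h
      rcases Ideal.map_eq_top_or_isMaximal_of_surjective (Pi.evalRingHom R i) (Function.surjective_eval i)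
        m.isMaximal with h' | h'
      · exact absurd (h.symm.trans h') q.isPrime.ne_top
      · rwa [← h]
    exact ⟨⟨i, ⟨q.asIdeal, hmax⟩⟩, MaximalSpectrum.ext hq'⟩

/-- Cardinality of a finite sigma type. -/
theorem enatCard_sigma {ι : Type u} [Fintype ι] (β : ι → Type u) :
    ENat.card (Σ i, β i) = ∑ i, ENat.card (β i) := by
  by_cases h : ∀ i, Finite (β i)
  · haveI := h
    simp only [ENat.card_eq_coe_natCard]
    rw [Nat.card_sigma, Nat.cast_sum]
  · push Not at h
    obtain ⟨i, hi⟩ := h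
    haveI : Infinite (β i) := hi
    haveI : Infinite (Σ i, β i) := Infinite.of_injective (Sigma.mk i) sigma_mk_injective
    rw [ENat.card_eq_top_of_infinite, eq_comm, eq_top_iff, ← ENat.card_eq_top_of_infinite (α := β i)]
    exact Finset.single_le_sum (f := fun i => ENat.card (β i)) (fun _ _ => bot_le) (Finset.mem_univ i)

end GrothLib.BrnchSum
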